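import Mathlib

/-!
Fixed-point-free linear representations: geometric sums, elementary abelian subgroups,
primitive divisors and the two-dimensional case.
-/

namespace CfsgLib.NearFieldSL

open Module

variable {G K V : Type*} [Group G] [Field K] [AddCommGroup V] [Module K V]

/-- Fixed-point-free. -/
def Fpf (ρ : G →* Module.End K V) : Prop := ∀ g : G, g ≠ 1 → ∀ v : V, ρ g v = v → v = 0

variable {ρ : G →* Module.End K V} (hρ : Fpf ρ)
include hρ

theorem geom_zero {g : G} (hg : g ≠ 1) {n : ℕ} (hn : g ^ n = 1) :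
    ∑ i ∈ Finset.range n, (ρ g) ^ i = 0 := by
  refine LinearMap.ext fun v => hρ g hg _ ?_
  have h := mul_geom_sum (ρ g) n
  rw [← map_pow, hn, map_one, sub_self] at h
  have h' := LinearMap.congr_fun h v
  rw [Module.End.mul_apply, LinearMap.sub_apply, Module.End.one_apply, LinearMap.zero_apply,
    sub_eq_zero] at h'
  exact h'

theorem no_elementary [Nontrivial V] {ℓ : ℕ} (hl : ℓ.Prime) (hK : (ℓ : K) ≠ 0) {x c : G}
    (hx : x ^ ℓ = 1) (hc : c ^ ℓ = 1) (hc1 : c ≠ 1) (hxc : Commute x c)
    (hne : ∀ i : ℕ, x * c ^ i ≠ 1) : False := by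
  have h0 : ∑ i ∈ Finset.range ℓ, ∑ j ∈ Finset.range ℓ, (ρ (x * c ^ i)) ^ j = 0 := by
    refine Finset.sum_eq_zero fun i _ => geom_zero hρ (hne i) ?_
    rw [(hxc.pow_right i).mul_pow, hx, one_mul, ← pow_mul, mul_comm, pow_mul, hc, one_pow]
  rw [Finset.sum_comm] at h0
  have hterm : ∀ i j : ℕ, (ρ (x * c ^ i)) ^ j = (ρ x) ^ j * (ρ (c ^ j)) ^ i := fun i j => by
    rw [← map_pow, ← map_pow, ← map_pow, ← map_mul, (hxc.pow_right i).mul_pow, ← pow_mul,
      ← pow_mul, mul_comm i j]
  simp only [hterm, ← Finset.mul_sum] at h0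
  rw [Finset.sum_eq_single_of_mem 0 (Finset.mem_range.mpr hl.pos)] at h0
  · simp only [pow_zero, map_one, one_mul, one_pow, Finset.sum_const, Finset.card_range] at h0
    obtain ⟨v, hv⟩ := exists_ne (0 : V)
    have := LinearMap.congr_fun h0 v
    rw [LinearMap.smul_apply, Module.End.one_apply, LinearMap.zero_apply,
      ← Nat.cast_smul_eq_nsmul K] at this
    rcases smul_eq_zero.mp this with h | h
    · exact hK h
    · exact hv h
  · intro j hj hj0
    have hcj : c ^ j ≠ 1 := by
      intro h
      have hdvd := orderOf_dvd_of_pow_eq_one h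
      rw [orderOf_eq_prime (hp := ⟨hl⟩) hc hc1] at hdvd
      have hpos := Nat.le_of_dvd (Nat.pos_of_ne_zero hj0) hdvd
      rw [Finset.mem_range] at hj
      omega
    rw [geom_zero hρ hcj (by rw [← pow_mul, mul_comm, pow_mul, hc, one_pow]), mul_zero]

theorem commute_of_prim [Finite V] [Finite K] [Nontrivial V] {r : ℕ} (hr : r.Prime) {c : G}
    (hc : orderOf c = r)
    (hprim : ∀ i, 1 ≤ i → i < finrank K V → ¬ r ∣ Nat.card K ^ i - 1) {a b : G}
    (ha : Commute a c) (hb : Commute b c) (hinj : Function.Injective ρ) : Commute a b := by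
  classical
  haveI := Fact.mk hr
  obtain ⟨v, hv⟩ := exists_ne (0 : V)
  have hc1 : c ≠ 1 := fun h => by rw [h, orderOf_one] at hc; exact hr.ne_one hc.symm
  let A : Subalgebra K (Module.End K V) := Algebra.adjoin K {ρ c}
  let W : Submodule K V := A.toSubmodule.map (LinearMap.applyₗ v)
  have hvW : v ∈ W := ⟨1, A.one_mem, rfl⟩
  have hstab : ∀ g ∈ Subgroup.zpowers c, ∀ w ∈ W, ρ g w ∈ W := by
    intro g hg w hw
    have hfo : IsOfFinOrder c := orderOf_pos_iff.mp (hc ▸ hr.pos)
    obtain ⟨k, rfl⟩ := Submonoid.mem_powers_iff _ _ |>.mp (hfo.mem_powers_iff_mem_zpowers.mpr hg)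
    obtain ⟨q, hq, rfl⟩ := hw
    refine ⟨(ρ c) ^ k * q, A.mul_mem (A.pow_mem (Algebra.subset_adjoin rfl) k) hq, ?_⟩
    rw [LinearMap.applyₗ_apply_apply, LinearMap.applyₗ_apply_apply, Module.End.mul_apply, map_pow]
  letI act : MulAction (Subgroup.zpowers c) W :=
    { smul := fun g w => ⟨ρ (g : G) (w : V), hstab g g.2 w w.2⟩
      one_smul := fun w => Subtype.ext (by
        show ρ ((1 : Subgroup.zpowers c) : G) (w : V) = w
        rw [Subgroup.coe_one, map_one]; rfl)
      mul_smul := fun g h w => Subtype.ext (by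
        show ρ ((g * h : Subgroup.zpowers c) : G) (w : V) = ρ (g : G) (ρ (h : G) w)
        rw [Subgroup.coe_mul, map_mul]; rfl) }
  have hP : IsPGroup r (Subgroup.zpowers c) := IsPGroup.of_card (n := 1)
    (by rw [Nat.card_zpowers, hc, pow_one])
  have hmod := hP.card_modEq_card_fixedPoints W
  have hfix : Nat.card (MulAction.fixedPoints (Subgroup.zpowers c) W) = 1 := by
    haveI : Subsingleton (MulAction.fixedPoints (Subgroup.zpowers c) W) := by
      constructor
      intro w w'
      have h0 : ∀ u : MulAction.fixedPoints (Subgroup.zpowers c) W, ((u : W) : V) = 0 := fun u =>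
        hρ c hc1 _ (congrArg Subtype.val (u.2 ⟨c, Subgroup.mem_zpowers c⟩))
      exact Subtype.ext (Subtype.ext ((h0 w).trans (h0 w').symm))
    haveI : Nonempty (MulAction.fixedPoints (Subgroup.zpowers c) W) :=
      ⟨⟨0, fun g => Subtype.ext (map_zero _)⟩⟩
    exact Nat.card_eq_one_iff_unique.mpr ⟨inferInstance, inferInstance⟩
  rw [hfix] at hmod
  have hWtop : W = ⊤ := by
    by_contra hne
    have hlt := Submodule.finrank_lt hne
    have hW1 : 1 ≤ finrank K W := by
      rw [Nat.one_le_iff_ne_zero, Ne, Submodule.finrank_eq_zero]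
      intro h
      exact hv (by simpa [h] using hvW)
    refine hprim _ hW1 hlt ?_
    rw [← Nat.modEq_iff_dvd' (Nat.one_le_pow _ _ Nat.card_pos),
      ← Module.natCard_eq_pow_finrank (K := K) (V := W)]
    exact hmod.symm
  have key : ∀ g : G, Commute g c → ρ g ∈ A := by
    intro g hg
    have hmem : ρ g v ∈ W := hWtop ▸ Submodule.mem_top
    obtain ⟨q, hq, hqv⟩ := hmem
    rw [LinearMap.applyₗ_apply_apply] at hqv
    have hcom : ∀ q' ∈ A, Commute (ρ g) q' := by
      intro q' hq'
      exact (Algebra.commute_of_mem_adjoin_singleton_of_commute hq' (hg.map ρ))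
    suffices hgq : ρ g = q by rw [hgq]; exact hq
    refine LinearMap.ext fun w => ?_
    have hw : w ∈ W := hWtop ▸ Submodule.mem_top
    obtain ⟨q', hq', rfl⟩ := hw
    rw [LinearMap.applyₗ_apply_apply]
    have h1 : Commute q q' :=
      (Algebra.commute_of_mem_adjoin_singleton_of_commute hq'
        ((Algebra.commute_of_mem_adjoin_singleton_of_commute hq (Commute.refl (ρ c))).symm))
    calc ρ g (q' v) = (ρ g * q') v := rfl
      _ = (q' * ρ g) v := by rw [(hcom q' hq').eq]
      _ = q' (q v) := by rw [hqv]; rfl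
      _ = (q' * q) v := rfl
      _ = (q * q') v := by rw [h1.eq]
  have hab : Commute (ρ a) (ρ b) := by
    have h2 := key a ha
    exact (Algebra.commute_of_mem_adjoin_singleton_of_commute h2 (hb.map ρ)).symm
  exact hinj (by rw [map_mul, map_mul]; exact hab.eq)

omit hρ

/-- In dimension two, commuting with a non-commuting pair forces a scalar. -/
theorem scalar_of_commute (h2 : finrank K V = 2) {f a b : Module.End K V} (hab : a * b ≠ b * a)
    (ha : Commute f a) (hb : Commute f b) : ∃ s : K, f = s • 1 := by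
  haveI : FiniteDimensional K V := FiniteDimensional.of_finrank_eq_succ h2
  let e := LinearMap.toMatrixAlgEquiv (Module.finBasisOfFinrankEq K V h2)
  by_cases hs : e f 0 1 = 0 ∧ e f 1 0 = 0 ∧ e f 0 0 = e f 1 1
  · refine ⟨e f 0 0, e.injective ?_⟩
    rw [map_smul, map_one]
    ext i j
    fin_cases i <;> fin_cases j <;> simp [hs.1, hs.2.1, hs.2.2]
  · exfalso
    apply hab
    apply e.injective
    rw [map_mul, map_mul]
    have hA : e a * e f = e f * e a := by rw [← map_mul, ← map_mul, ha.eq]
    have hB : e b * e f = e f * e b := by rw [← map_mul, ← map_mul, hb.eq]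
    generalize e a = B at hA
    generalize e b = C at hB
    generalize e f = M at hA hB hs
    have hM : M 0 1 ≠ 0 ∨ M 1 0 ≠ 0 ∨ M 0 0 - M 1 1 ≠ 0 := by
      rcases not_and_or.mp hs with h | h
      · exact Or.inl h
      rcases not_and_or.mp h with h | h
      · exact Or.inr (Or.inl h)
      · exact Or.inr (Or.inr (sub_ne_zero.mpr h))
    have key : ∀ D : Matrix (Fin 2) (Fin 2) K, D * M = M * D →
        ∃ β : K, D 0 1 = β * M 0 1 ∧ D 1 0 = β * M 1 0 ∧ D 0 0 = D 1 1 + β * (M 0 0 - M 1 1) := by
      intro D hD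
      have e1 := congrFun (congrFun hD 0) 0
      have e2 := congrFun (congrFun hD 0) 1
      have e3 := congrFun (congrFun hD 1) 0
      simp only [Matrix.mul_apply, Fin.sum_univ_two] at e1 e2 e3
      rcases hM with h | h | h
      · refine ⟨D 0 1 / M 0 1, by field_simp, ?_, ?_⟩
        · field_simp; linear_combination -e1
        · field_simp; linear_combination e2
      · refine ⟨D 1 0 / M 1 0, ?_, by field_simp, ?_⟩
        · field_simp; linear_combination e1
        · field_simp; linear_combination -e3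
      · refine ⟨(D 0 0 - D 1 1) / (M 0 0 - M 1 1), ?_, ?_, by field_simp; ring⟩
        · field_simp; linear_combination -e2
        · field_simp; linear_combination e3
    obtain ⟨β, b1, b2, b3⟩ := key B hA
    obtain ⟨γ, c1, c2, c3⟩ := key C hB
    ext i j
    fin_cases i <;> fin_cases j <;>
      simp [Matrix.mul_apply, Fin.sum_univ_two, b1, b2, b3, c1, c2, c3] <;> ring

include hρ in
/-- In dimension two an element of order five is not conjugate to its square. -/
theorem no_sq_conj [Nontrivial V] (h2 : finrank K V = 2) (hinj : Function.Injective ρ) {x k : G}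
    (hx : x ^ 5 = 1) (hx1 : x ≠ 1) (hk : k * x ^ 2 * k⁻¹ = x) : False := by
  haveI : FiniteDimensional K V := FiniteDimensional.of_finrank_eq_succ h2
  let e := LinearMap.toMatrixAlgEquiv (Module.finBasisOfFinrankEq K V h2)
  set X := e (ρ x) with hX
  have hKK : e (ρ k⁻¹) * e (ρ k) = 1 := by rw [← map_mul, ← map_mul, inv_mul_cancel, map_one, map_one]
  have hc : e (ρ k) * (X * X) * e (ρ k⁻¹) = X := by
    rw [hX, ← map_mul, ← map_mul, ← map_mul, ← map_mul, ← map_mul, ← map_mul, ← pow_two, hk]
  have htr : (X * X).trace = X.trace := by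
    have := congrArg Matrix.trace hc
    rw [Matrix.trace_mul_cycle, hKK, one_mul] at this
    exact this
  have hdet : (X * X).det = X.det := by
    have h := congrArg Matrix.det hc
    have hkk := congrArg Matrix.det hKK
    rw [Matrix.det_mul, Matrix.det_one] at hkk
    rw [Matrix.det_mul, Matrix.det_mul] at h
    linear_combination h - (X * X).det * hkk
  have hX5 : X ^ 5 = 1 := by rw [hX, ← map_pow, ← map_pow, hx, map_one, map_one]
  have hd0 : X.det ≠ 0 := by
    intro h
    have := congrArg Matrix.det hX5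
    rw [Matrix.det_pow, h, Matrix.det_one] at this
    simp at this
  rw [Matrix.det_mul] at hdet
  have hd1 : X.det = 1 := by
    refine mul_left_cancel₀ hd0 ?_
    rw [hdet, mul_one]
  rw [Matrix.det_fin_two] at hd1
  simp only [Matrix.trace_fin_two, Matrix.mul_apply, Fin.sum_univ_two] at htr
  have ht : (X 0 0 + X 1 1 - 2) * (X 0 0 + X 1 1 + 1) = 0 := by linear_combination htr + 2 * hd1
  have hCH : X * X = (X 0 0 + X 1 1) • X - 1 := by
    ext i j
    fin_cases i <;> fin_cases j <;>
      simp [Matrix.mul_apply, Fin.sum_univ_two] <;>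
      linear_combination (norm := ring_nf) (0 : K) * hd1 <;> linear_combination -hd1
  rcases mul_eq_zero.mp ht with h | h
  · have hE : (ρ x - 1) * (ρ x - 1) = 0 := by
      apply e.injective
      rw [map_mul, map_sub, map_one, map_zero, ← hX]
      have h' : X 0 0 + X 1 1 = 2 := by linear_combination h
      rw [sub_mul, mul_sub, one_mul, mul_one, hCH, h', two_smul]
      abel
    have h1 : ρ x = 1 := by
      refine LinearMap.ext fun v => sub_eq_zero.mp (hρ x hx1 _ ?_)
      have := LinearMap.congr_fun hE v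
      simp only [Module.End.mul_apply, LinearMap.sub_apply, Module.End.one_apply,
        LinearMap.zero_apply] at this ⊢
      exact sub_eq_zero.mp this
    exact hx1 (hinj (by rw [h1, map_one]))
  · have hE : ρ x * ρ x * ρ x = 1 := by
      apply e.injective
      rw [map_mul, map_mul, map_one, ← hX]
      have h' : X 0 0 + X 1 1 = -1 := by linear_combination h
      rw [hCH, h', sub_mul, smul_mul_assoc, hCH, h', one_mul]
      module
    have h3 : x ^ 3 = 1 := hinj (by rw [map_pow, pow_succ, pow_two, hE, map_one])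
    apply hx1
    have h6 : x ^ 6 = 1 := by rw [show 6 = 3 * 2 by norm_num, pow_mul, h3, one_pow]
    rw [pow_succ, hx, one_mul] at h6
    exact h6

end CfsgLib.NearFieldSL
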