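import Cfsg.Agent.Lib.Char.Zassenhaus.Table

/-!
Facts about `SL(2,5)` used for the insoluble near-fields.
-/

namespace CfsgLib.NearFieldSL

open CfsgLib.Char.Zassenhaus

theorem centre_check : ∀ k : Fin 120, mulQ (elQ k) genA = mulQ genA (elQ k) →
    mulQ (elQ k) genB = mulQ genB (elQ k) → elQ k = (1, 0, 0, 1) ∨ elQ k = (4, 0, 0, 4) := by
  decide +kernel

theorem eq_one_or_Z5 {g : SL25} (hA : g * A5 = A5 * g) (hB : g * B5 = B5 * g) : g = 1 ∨ g = Z5 := by
  rcases centre_check (idx g) (by rw [← toQ_el, el_idx, ← toQ_A5, ← toQ_mul, ← toQ_mul, hA])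
    (by rw [← toQ_el, el_idx, ← toQ_B5, ← toQ_mul, ← toQ_mul, hB]) with e | e
  · exact Or.inl (toQ_injective (by rw [toQ_one, ← e, ← toQ_el, el_idx]))
  · exact Or.inr (toQ_injective (by rw [toQ_Z5, ← e, ← toQ_el, el_idx]))

theorem sq_check : ∃ j : Fin 120,
    mulQ (elQ j) (mulQ (mulQ genA genB) (mulQ genA genB)) =
      mulQ (mulQ (mulQ (mulQ genA (1, 2, 1, 3)) (mulQ genA (1, 2, 1, 3)))
        (mulQ (mulQ genA (1, 2, 1, 3)) (mulQ genA (1, 2, 1, 3)))) (elQ j) := by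
  decide +kernel

/-- The outer substitution `B5 ↦ B5'` squares a class of elements of order five. -/
theorem exists_outer_sq : ∃ j : SL25, j * (A5 * B5) ^ 2 * j⁻¹ = ((A5 * B5') ^ 2) ^ 2 := by
  obtain ⟨j, hj⟩ := sq_check
  refine ⟨el j, mul_inv_eq_iff_eq_mul.mpr (toQ_injective ?_)⟩
  simp only [pow_two, toQ_mul, toQ_el, toQ_A5, toQ_B5, toQ_B5']
  exact hj

theorem orderOf_AB : orderOf (A5 * B5) = 10 := by
  rw [orderOf_eq_iff (by norm_num)]
  refine ⟨toQ_injective ?_, fun m hm hm0 e => ?_⟩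
  · simp only [pow_succ, pow_zero, one_mul, toQ_mul, toQ_A5, toQ_B5, toQ_one]; decide +kernel
  · have := congrArg toQ e
    interval_cases m <;> simp only [pow_succ, pow_zero, one_mul, toQ_mul, toQ_A5, toQ_B5, toQ_one] at this <;>
      revert this <;> decide +kernel

theorem A5_B5_not_comm : A5 * B5 ≠ B5 * A5 := by
  intro e
  have := congrArg toQ e
  rw [toQ_mul, toQ_mul, toQ_A5, toQ_B5] at this
  revert this
  decide +kernel

theorem card_SL25 : Nat.card SL25 = 120 := by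
  have e : Fin 120 ≃ SL25 := ⟨el, idx, idx_el, el_idx⟩
  rw [← Nat.card_congr e, Nat.card_fin]

theorem Z5_ne_one : Z5 ≠ 1 := fun e => by
  have := congrArg toQ e
  rw [toQ_Z5, toQ_one] at this
  revert this
  decide

theorem Z5_sq : Z5 * Z5 = 1 := toQ_injective (by rw [toQ_mul, toQ_Z5, toQ_one]; decide)

theorem Z5_comm (g : SL25) : Z5 * g = g * Z5 := by
  refine toQ_injective ?_
  rw [toQ_mul, toQ_mul, toQ_Z5]
  simp only [mulQ, Prod.mk.injEq]
  refine ⟨?_, ?_, ?_, ?_⟩ <;> ring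

end CfsgLib.NearFieldSL
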