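import Cfsg.Agent.Lib.Perm.NearField.Table
import Cfsg.Agent.Lib.Perm.NearField.Linear
import Cfsg.Agent.Lib.Char.Zassenhaus.Structure
import Cfsg.Agent.Lib.Char.Zassenhaus.OfAut
import Cfsg.Agent.Lib.Char.Zsigmondy.Main

/-!
Insoluble groups regular on the non-zero vectors.
-/

namespace CfsgLib.NearFieldSL

open Module CfsgLib.Char.Zassenhaus

variable {G V : Type*} [Group G] [Finite G] {p : ℕ} [Fact p.Prime] [AddCommGroup V]
  [Module (ZMod p) V] [Finite V] [Nontrivial V]
  {ρ : G →* Module.End (ZMod p) V} (hρ : Fpf ρ) (hinj : Function.Injective ρ)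
  (hcard : Nat.card G + 1 = p ^ finrank (ZMod p) V)
  (f : SL25 →* G) (hf : Function.Injective f) (hn : f.range.Normal)

include hcard hf in
theorem dvd_card : 120 ∣ p ^ finrank (ZMod p) V - 1 := by
  rw [← hcard, Nat.add_sub_cancel, ← card_SL25, Nat.card_congr (MonoidHom.ofInjective hf).toEquiv]
  exact f.range.card_subgroup_dvd_card

include hcard hf in
theorem seven_le : 7 ≤ p := by
  have h := dvd_card hcard f hf
  have hp := (Fact.out : p.Prime)
  have hd : finrank (ZMod p) V ≠ 0 := by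
    intro h0
    rw [h0, pow_zero] at hcard
    have := Nat.card_pos (α := G)
    omega
  have hne : ∀ q : ℕ, q ∣ 120 → p ≠ q := by
    rintro q hq rfl
    have h1 : p ∣ p ^ finrank (ZMod p) V - 1 := hq.trans h
    have h2 : p ∣ p ^ finrank (ZMod p) V := dvd_pow_self p hd
    have h3 := Nat.dvd_sub h2 h1
    have hpos : 1 ≤ p ^ finrank (ZMod p) V := Nat.one_le_pow _ _ hp.pos
    rw [show p ^ finrank (ZMod p) V - (p ^ finrank (ZMod p) V - 1) = 1 by omega] at h3
    exact hp.one_lt.ne' (Nat.dvd_one.mp h3)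
  have h2 := hne 2 (by norm_num)
  have h3 := hne 3 (by norm_num)
  have h5 := hne 5 (by norm_num)
  have := hp.two_le
  by_contra hlt
  interval_cases p
  · exact h2 rfl
  · exact h3 rfl
  · exact absurd hp (by norm_num)
  · exact h5 rfl
  · exact absurd hp (by norm_num)

include hρ hcard hf in
theorem natCast_ne_zero {ℓ : ℕ} (hl : ℓ < 7) (h0 : ℓ ≠ 0) : (ℓ : ZMod p) ≠ 0 := by
  rw [Ne, ZMod.natCast_eq_zero_iff]
  intro h
  have := seven_le hcard f hf
  have := Nat.le_of_dvd (Nat.pos_of_ne_zero h0) h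
  omega

include hinj hf in
theorem not_dim_one : finrank (ZMod p) V ≠ 1 := by
  intro h1
  obtain ⟨v, hv, hspan⟩ := finrank_eq_one_iff'.mp h1
  apply A5_B5_not_comm
  apply hf
  rw [map_mul, map_mul]
  apply hinj
  rw [map_mul, map_mul]
  obtain ⟨s, hs⟩ := hspan (ρ (f A5) v)
  obtain ⟨s', hs'⟩ := hspan (ρ (f B5) v)
  refine LinearMap.ext fun w => ?_
  obtain ⟨t, rfl⟩ := hspan w
  simp only [Module.End.mul_apply, map_smul]
  rw [← hs', ← hs, map_smul, map_smul, ← hs, ← hs', smul_smul s', smul_smul s, mul_comm s' s]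

include hρ hinj hcard hf in
/-- A large primitive divisor is impossible. -/
theorem no_large_prim (htwo : ∀ g g' : G,
      g ∉ f.range ⊔ Subgroup.centralizer (f.range : Set G) →
      g' ∉ f.range ⊔ Subgroup.centralizer (f.range : Set G) →
      g⁻¹ * g' ∈ f.range ⊔ Subgroup.centralizer (f.range : Set G))
    (hn : f.range.Normal) {r : ℕ} (hr : r.Prime) (h7 : 7 ≤ r)
    (hdvd : r ∣ p ^ finrank (ZMod p) V - 1)
    (hprim : ∀ i, 1 ≤ i → i < finrank (ZMod p) V → ¬ r ∣ p ^ i - 1) : False := by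
  haveI := Fact.mk hr
  obtain ⟨c, hc⟩ := exists_prime_orderOf_dvd_card' (G := G) r
    (by rw [← hcard, Nat.add_sub_cancel] at hdvd; exact hdvd)
  set M := f.range ⊔ Subgroup.centralizer (f.range : Set G) with hM
  have hcM : c ∈ M := by
    have hsq : c * c ∈ M := by
      by_cases h : c ∈ M
      · exact mul_mem h h
      · have := htwo c⁻¹ c (fun h' => h (inv_mem_iff.mp h')) h
        simpa using this
    have hodd : Odd r := hr.odd_of_ne_two (by omega)
    obtain ⟨j, hj⟩ := hodd
    have he : c = ((c * c) ^ j)⁻¹ := by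
      rw [eq_inv_iff_mul_eq_one, ← pow_two, ← pow_mul, ← pow_succ', ← hj, ← hc, pow_orderOf_eq_one]
    rw [he]
    exact inv_mem (pow_mem hsq j)
  haveI := hn
  obtain ⟨u, hu, z, hz, huz⟩ := Subgroup.mem_sup_of_normal_left.mp hcM
  obtain ⟨u', rfl⟩ := hu
  have hcomm : Commute (f u') z := Subgroup.mem_centralizer_iff.mp hz _ ⟨u', rfl⟩
  have hc120 : c ^ 120 ∈ Subgroup.centralizer (f.range : Set G) := by
    rw [← huz, hcomm.mul_pow, ← map_pow, ← card_SL25, pow_card_eq_one', map_one, one_mul]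
    exact pow_mem hz _
  have hne : c ^ 120 ≠ 1 := by
    intro h
    have h1 := orderOf_dvd_of_pow_eq_one h
    rw [hc] at h1
    have h2 : r ∣ 2 ^ 3 * (3 * 5) := by norm_num; exact h1
    rcases hr.dvd_mul.mp h2 with h | h
    · have := Nat.le_of_dvd (by norm_num) (hr.dvd_of_dvd_pow h)
      omega
    · rcases hr.dvd_mul.mp h with h | h <;> have := Nat.le_of_dvd (by norm_num) h <;> omega
  have hord : orderOf (c ^ 120) = r := by
    refine orderOf_eq_prime ?_ hne
    rw [← pow_mul, mul_comm, pow_mul, ← hc, pow_orderOf_eq_one, one_pow]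
  apply A5_B5_not_comm
  apply hf
  rw [map_mul, map_mul]
  exact commute_of_prim hρ hr hord (by simpa [Nat.card_zmod] using hprim)
    (Subgroup.mem_centralizer_iff.mp hc120 _ ⟨A5, rfl⟩)
    (Subgroup.mem_centralizer_iff.mp hc120 _ ⟨B5, rfl⟩) hinj

include hf in
theorem card_dvd (hn : f.range.Normal) (htwo : ∀ g g' : G,
      g ∉ f.range ⊔ Subgroup.centralizer (f.range : Set G) →
      g' ∉ f.range ⊔ Subgroup.centralizer (f.range : Set G) →
      g⁻¹ * g' ∈ f.range ⊔ Subgroup.centralizer (f.range : Set G)) :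
    Nat.card G ∣ 240 * Nat.card (Subgroup.centralizer (f.range : Set G)) := by
  classical
  set C := Subgroup.centralizer (f.range : Set G) with hC
  set M := f.range ⊔ C with hM
  let ψ : SL25 × C →* G := MonoidHom.noncommCoprod f C.subtype
    (fun u z => Subgroup.mem_centralizer_iff.mp z.2 _ ⟨u, rfl⟩)
  have hψM : M ≤ ψ.range := by
    refine sup_le ?_ ?_
    · rintro _ ⟨u, rfl⟩
      exact ⟨(u, 1), by simp [ψ, MonoidHom.noncommCoprod]⟩
    · intro z hz
      exact ⟨(1, ⟨z, hz⟩), by simp [ψ, MonoidHom.noncommCoprod]⟩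
  have h1 : Nat.card M ∣ 120 * Nat.card C := by
    refine (Subgroup.card_dvd_of_le hψM).trans ?_
    rw [← card_SL25, ← Nat.card_prod]
    exact Subgroup.card_range_dvd ψ
  have h2 : M.index ∣ 2 := by
    have hle : M.index ≤ 2 := by
      by_cases hex : ∃ g₀, g₀ ∉ M
      · obtain ⟨g₀, hg₀⟩ := hex
        rw [Subgroup.index]
        have hsur : Function.Surjective (fun b : Bool => ((bif b then 1 else g₀ : G) : G ⧸ M)) := by
          intro x
          obtain ⟨g, rfl⟩ := QuotientGroup.mk_surjective x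
          by_cases hg : g ∈ M
          · exact ⟨true, QuotientGroup.eq.mpr (by simpa using hg)⟩
          · exact ⟨false, QuotientGroup.eq.mpr (htwo g₀ g hg₀ hg)⟩
        have := Nat.card_le_card_of_surjective _ hsur
        simpa using this
      · push Not at hex
        rw [(Subgroup.eq_top_iff' M).mpr hex, Subgroup.index_top]
        norm_num
    have := M.index_ne_zero_of_finite
    have h12 : M.index = 1 ∨ M.index = 2 := by omega
    rcases h12 with h | h <;> rw [h] <;> norm_num
  rw [← M.card_mul_index]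
  exact (mul_dvd_mul h1 h2).trans (by rw [show 120 * Nat.card C * 2 = 240 * Nat.card C by ring])

include hρ hinj hcard hf in
theorem not_dvd_centralizer {ℓ : ℕ} (hl : ℓ = 3 ∨ ℓ = 5) :
    ¬ ℓ ∣ Nat.card (Subgroup.centralizer (f.range : Set G)) := by
  intro h
  have hlp : ℓ.Prime := by rcases hl with rfl | rfl <;> norm_num
  haveI := Fact.mk hlp
  obtain ⟨c, hc⟩ := exists_prime_orderOf_dvd_card' ℓ h
  obtain ⟨u, hu, hu1⟩ : ∃ u : SL25, u ^ ℓ = 1 ∧ u ≠ 1 := by
    rcases hl with rfl | rfl
    · exact ⟨A5, A5_cube, A5_ne_one⟩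
    · refine ⟨(A5 * B5) ^ 2, ?_, fun h => ?_⟩
      · rw [← pow_mul, show 2 * 5 = orderOf (A5 * B5) by rw [orderOf_AB], pow_orderOf_eq_one]
      · have := orderOf_le_of_pow_eq_one (by norm_num) h
        rw [orderOf_AB] at this
        omega
  refine no_elementary hρ hlp
    (natCast_ne_zero hρ hcard f hf (by rcases hl with rfl | rfl <;> norm_num)
      (by rcases hl with rfl | rfl <;> norm_num))
    (x := f u) (c := (c : G)) (by rw [← map_pow, hu, map_one])
    (by rw [← hc, ← Subgroup.orderOf_coe, pow_orderOf_eq_one])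
    (fun h1 => by rw [← Subgroup.orderOf_coe, h1, orderOf_one] at hc; exact hlp.ne_one hc.symm)
    (Subgroup.mem_centralizer_iff.mp c.2 _ ⟨u, rfl⟩) ?_
  intro i hi
  have hmem : f u ∈ Subgroup.centralizer (f.range : Set G) := by
    rw [eq_inv_of_mul_eq_one_left hi]
    exact inv_mem (pow_mem c.2 i)
  have hcen : ∀ y, u * y = y * u := fun y => hf (by
    rw [map_mul, map_mul]
    exact (Subgroup.mem_centralizer_iff.mp hmem _ ⟨y, rfl⟩).symm)
  rcases eq_one_or_Z5 (hcen A5) (hcen B5) with e | e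
  · exact hu1 e
  · rcases hl with rfl | rfl
    · rw [e, pow_succ, pow_two, Z5_sq, one_mul] at hu
      exact Z5_ne_one hu
    · rw [e, show Z5 ^ 5 = (Z5 * Z5) * (Z5 * Z5) * Z5 by simp only [pow_succ, pow_zero, one_mul, mul_assoc], Z5_sq, one_mul, one_mul] at hu
      exact Z5_ne_one hu

include hρ hinj hcard hf in
theorem dim_eq_two (htwo : ∀ g g' : G,
      g ∉ f.range ⊔ Subgroup.centralizer (f.range : Set G) →
      g' ∉ f.range ⊔ Subgroup.centralizer (f.range : Set G) →
      g⁻¹ * g' ∈ f.range ⊔ Subgroup.centralizer (f.range : Set G))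
    (hn : f.range.Normal) : finrank (ZMod p) V = 2 := by
  have hp := (Fact.out : p.Prime)
  have h7 := seven_le hcard f hf
  have hd1 := not_dim_one hinj f hf
  have hd0 : finrank (ZMod p) V ≠ 0 := by
    intro h0
    rw [h0, pow_zero] at hcard
    have := Nat.card_pos (α := G)
    omega
  by_contra hd2
  obtain ⟨r, hr, hrd, hrp⟩ := CfsgLib.Char.Zsigmondy.exists_prim p (finrank (ZMod p) V) (by omega) (by omega)
    (fun h => by omega) (fun h => hd2 h.1)
  have hlt : finrank (ZMod p) V < r := by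
    by_contra hge
    have hrp' : ¬ r ∣ p := by
      intro h
      have := (Nat.prime_dvd_prime_iff_eq hr hp).mp h
      subst this
      have h2 : r ∣ r ^ finrank (ZMod r) V := dvd_pow_self r hd0
      have hpos : 1 ≤ r ^ finrank (ZMod r) V := Nat.one_le_pow _ _ hr.pos
      have h3 := Nat.dvd_sub h2 hrd
      rw [show r ^ finrank (ZMod r) V - (r ^ finrank (ZMod r) V - 1) = 1 by omega] at h3
      exact hr.one_lt.ne' (Nat.dvd_one.mp h3)
    have hfer : r ∣ p ^ (r - 1) - 1 := by
      haveI := Fact.mk hr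
      rw [← ZMod.natCast_eq_zero_iff, Nat.cast_sub (Nat.one_le_pow _ _ hp.pos), Nat.cast_pow,
        Nat.cast_one, ZMod.pow_card_sub_one_eq_one, sub_self]
      rwa [Ne, ZMod.natCast_eq_zero_iff]
    exact hrp (r - 1) (by have := hr.two_le; omega) (by omega) hfer
  by_cases hr7 : 7 ≤ r
  · exact no_large_prim hρ hinj hcard f hf htwo hn hr hr7 hrd hrp
  have hr5 : r = 5 := by
    interval_cases r <;> first | omega | exact absurd hr (by norm_num) | rfl
  subst hr5
  have hd : finrank (ZMod p) V = 3 ∨ finrank (ZMod p) V = 4 := by omega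
  rcases hd with hd | hd
  · rw [hd] at hrd hrp
    have h52 : ¬ 5 ∣ p ^ 1 - 1 := hrp 1 le_rfl (by norm_num)
    have hpm : p % 5 = 0 ∨ p % 5 = 1 ∨ p % 5 = 2 ∨ p % 5 = 3 ∨ p % 5 = 4 := by omega
    have h5p : p ^ 3 % 5 = 1 := by
      have : 1 ≤ p ^ 3 := Nat.one_le_pow _ _ hp.pos
      omega
    rw [Nat.pow_mod] at h5p
    rw [pow_one] at h52
    rcases hpm with h | h | h | h | h <;> rw [h] at h5p <;> norm_num at h5p <;> omega
  · rw [hd] at hrd hrp hcard
    have hpp : 49 ≤ p ^ 2 := by nlinarith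
    have hfac : p ^ 4 - 1 = (p ^ 2 - 1) * (p ^ 2 + 1) := by
      zify [Nat.one_le_pow 4 p hp.pos, Nat.one_le_pow 2 p hp.pos]
      ring
    -- prime divisors of `p ^ 2 + 1`
    have hs : ∀ s : ℕ, s.Prime → s ∣ p ^ 2 + 1 → s = 2 ∨ s = 5 := by
      intro s hs hsd
      by_contra hcon
      rw [not_or] at hcon
      have hsodd := hs.odd_of_ne_two hcon.1
      have hs3 : s ≠ 3 := by
        rintro rfl
        have : (p ^ 2 + 1) % 3 = 0 := Nat.mod_eq_zero_of_dvd hsd
        rw [Nat.add_mod, Nat.pow_mod] at this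
        have hp3 : p % 3 = 0 ∨ p % 3 = 1 ∨ p % 3 = 2 := by omega
        rcases hp3 with h | h | h <;> rw [h] at this <;> norm_num at this
      have hs7 : 7 ≤ s := by
        have := hs.two_le
        by_contra hlt
        interval_cases s <;> first | omega | exact absurd hs (by norm_num)
      refine no_large_prim hρ hinj (by rw [hd]; exact hcard) f hf htwo hn hs hs7
        (by rw [hd, hfac]; exact Dvd.dvd.mul_left hsd _) ?_
      rw [hd]
      have key : ∀ m : ℕ, 1 ≤ m → s ∣ m - 1 → (m : ZMod s) = 1 := fun m hm h => by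
        rw [← ZMod.natCast_eq_zero_iff, Nat.cast_sub hm, sub_eq_zero, Nat.cast_one] at h
        exact h
      haveI := Fact.mk hs
      have hm1 : (p : ZMod s) ^ 2 = -1 := by
        rw [← ZMod.natCast_eq_zero_iff, Nat.cast_add, Nat.cast_pow, Nat.cast_one] at hsd
        linear_combination hsd
      have hne : (-1 : ZMod s) ≠ 1 := by
        intro h
        have h2 : ((2 : ℕ) : ZMod s) = 0 := by push_cast; linear_combination -h
        rw [ZMod.natCast_eq_zero_iff] at h2
        exact hcon.1 ((Nat.prime_dvd_prime_iff_eq hs Nat.prime_two).mp h2)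
      intro i h1 h2 h
      have hi := key _ (Nat.one_le_pow _ _ hp.pos) h
      rw [Nat.cast_pow] at hi
      interval_cases i
      · rw [pow_one] at hi
        rw [hi, one_pow] at hm1
        exact hne hm1.symm
      · rw [hm1] at hi
        exact hne hi
      · rw [pow_succ, hm1] at hi
        have hp1 : (p : ZMod s) = -1 := by linear_combination -hi
        rw [hp1] at hm1
        exact hne (by linear_combination -hm1)
    -- the five part is small
    have h25 : ¬ 25 ∣ p ^ 2 + 1 := by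
      intro h
      have hG : 25 ∣ Nat.card G := by
        rw [show Nat.card G = p ^ 4 - 1 by omega, hfac]
        exact Dvd.dvd.mul_left h _
      have h5C := (hG.trans (card_dvd f hf hn htwo))
      refine not_dvd_centralizer hρ hinj (hcard.trans (congrArg _ hd.symm)) f hf (Or.inr rfl) ?_
      have h5' : 5 ∣ 48 * Nat.card (Subgroup.centralizer (f.range : Set G)) := by
        refine Nat.dvd_of_mul_dvd_mul_left (show 0 < 5 by norm_num) ?_
        rw [← mul_assoc]
        exact h5C
      exact (Nat.Coprime.dvd_of_dvd_mul_left (by norm_num) h5')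
    have h10 : p ^ 2 + 1 ∣ 10 := by
      rw [Nat.dvd_iff_prime_pow_dvd_dvd]
      intro q k hq hqk
      rcases Nat.eq_zero_or_pos k with rfl | hk
      · simp
      have hodd : p % 2 = 1 := Nat.odd_iff.mp (hp.odd_of_ne_two (by omega))
      rcases hs q hq ((dvd_pow_self q hk.ne').trans hqk) with rfl | rfl
      · have : k = 1 := by
          by_contra hk1
          have h4 : 2 ^ 2 ∣ p ^ 2 + 1 := (pow_dvd_pow 2 (by omega)).trans hqk
          have h4' := Nat.mod_eq_zero_of_dvd h4
          have hp4 : p % 4 = 1 ∨ p % 4 = 3 := by omega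
          rw [show (2:ℕ) ^ 2 = 4 by norm_num, Nat.add_mod, Nat.pow_mod] at h4'
          rcases hp4 with h | h <;> rw [h] at h4' <;> norm_num at h4'
        subst this; norm_num
      · have : k = 1 := by
          by_contra hk1
          exact h25 ((show (25:ℕ) = 5 ^ 2 by norm_num) ▸ (pow_dvd_pow 5 (by omega)).trans hqk)
        subst this; norm_num
    have := Nat.le_of_dvd (by norm_num) h10
    omega

include hρ hinj hcard hf in
theorem mem_sup_centralizer (h2 : finrank (ZMod p) V = 2) (hn : f.range.Normal) (g : G) :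
    g ∈ f.range ⊔ Subgroup.centralizer (f.range : Set G) := by
  haveI := hn
  obtain ⟨a, ha⟩ := hn.conj_mem _ (MonoidHom.mem_range.mpr ⟨A5, rfl⟩) g
  have ha3 : a ^ 3 = 1 := hf (by rw [map_pow, ha, conj_pow, ← map_pow, A5_cube, map_one]; group)
  have ha1 : a ≠ 1 := fun h => A5_ne_one (hf (by
    rw [h, map_one] at ha
    rw [map_one]
    exact (conj_eq_one_iff.mp ha.symm)))
  obtain ⟨u, hu⟩ := exists_conj_eq ha3 ha1
  set g1 := (f u)⁻¹ * g with hg1
  have hA : g1 * f A5 * g1⁻¹ = f A5 := by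
    rw [hg1, show (f u)⁻¹ * g * f A5 * ((f u)⁻¹ * g)⁻¹ = (f u)⁻¹ * (g * f A5 * g⁻¹) * f u by group,
      ← ha, ← hu, map_mul, map_mul, map_inv]
    group
  obtain ⟨b, hb⟩ := hn.conj_mem _ (MonoidHom.mem_range.mpr ⟨B5, rfl⟩) g1
  have hb3 : b ^ 3 = 1 := hf (by rw [map_pow, hb, conj_pow, ← map_pow, B5_cube, map_one]; group)
  have h10 : orderOf (A5 * b) = 10 := by
    rw [← orderOf_injective f hf, map_mul, hb,
      show f A5 * (g1 * f B5 * g1⁻¹) = g1 * (f A5 * f B5) * g1⁻¹ by
        nth_rewrite 1 [← hA]; group, ← map_mul]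
    have := (MulAut.conj g1).orderOf_eq (f (A5 * B5))
    rw [MulAut.conj_apply] at this
    rw [this, orderOf_injective f hf, orderOf_AB]
  obtain ⟨w, hw, hwb⟩ := exists_centralizer_conj hb3 h10
  set g2 := (f w)⁻¹ * g1 with hg2
  have hA2 : g2 * f A5 * g2⁻¹ = f A5 := by
    rw [hg2, show (f w)⁻¹ * g1 * f A5 * ((f w)⁻¹ * g1)⁻¹ = (f w)⁻¹ * (g1 * f A5 * g1⁻¹) * f w by group,
      hA]
    nth_rewrite 1 [← hw]
    rw [map_mul, map_mul, map_inv]
    group
  have hB2 : ∀ b', w * b' * w⁻¹ = b → g2 * f B5 * g2⁻¹ = f b' := by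
    intro b' h
    rw [hg2, show (f w)⁻¹ * g1 * f B5 * ((f w)⁻¹ * g1)⁻¹ = (f w)⁻¹ * (g1 * f B5 * g1⁻¹) * f w by group,
      ← hb, ← h, map_mul, map_mul, map_inv]
    group
  rcases hwb with hwb | hwb
  · have hC : g2 ∈ Subgroup.centralizer (f.range : Set G) := by
      rw [Subgroup.mem_centralizer_iff]
      rintro _ ⟨y, rfl⟩
      refine sl25_induction (p := fun y => f y * g2 = g2 * f y) (by simp) ?_ ?_ y
      · intro y hy
        rw [map_mul, mul_assoc, ← mul_inv_eq_iff_eq_mul.mp hA2, ← mul_assoc, hy, mul_assoc]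
      · intro y hy
        rw [map_mul, mul_assoc, ← mul_inv_eq_iff_eq_mul.mp (hB2 B5 hwb), ← mul_assoc, hy, mul_assoc]
    rw [show g = f (u * w) * g2 by rw [hg2, hg1, map_mul]; group]
    exact mul_mem (Subgroup.mem_sup_left ⟨_, rfl⟩) (Subgroup.mem_sup_right hC)
  · exfalso
    obtain ⟨j, hj⟩ := exists_outer_sq
    have hy : g2 * f ((A5 * B5) ^ 2) * g2⁻¹ = f ((A5 * B5') ^ 2) := by
      rw [map_pow, map_pow, ← conj_pow, map_mul, map_mul,
        show g2 * (f A5 * f B5) * g2⁻¹ = g2 * f A5 * g2⁻¹ * (g2 * f B5 * g2⁻¹) by group,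
        hA2, hB2 B5' hwb]
    refine no_sq_conj hρ h2 hinj (x := f ((A5 * B5) ^ 2)) (k := (f j)⁻¹ * g2) ?_ ?_ ?_
    · rw [← map_pow, ← pow_mul, show 2 * 5 = orderOf (A5 * B5) by rw [orderOf_AB],
        pow_orderOf_eq_one, map_one]
    · intro h
      have h' : (A5 * B5) ^ 2 = 1 := hf (by rw [h, map_one])
      have := orderOf_le_of_pow_eq_one (by norm_num) h'
      rw [orderOf_AB] at this
      omega
    · rw [show (f j)⁻¹ * g2 * f ((A5 * B5) ^ 2) ^ 2 * ((f j)⁻¹ * g2)⁻¹ =
        (f j)⁻¹ * (g2 * f ((A5 * B5) ^ 2) * g2⁻¹) ^ 2 * f j by rw [conj_pow]; group, hy, ← map_pow,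
        ← hj, map_mul, map_mul, map_inv]
      group

include hρ hinj hcard hf in
/-- The classification. -/
theorem classify (htwo : ∀ g g' : G,
      g ∉ f.range ⊔ Subgroup.centralizer (f.range : Set G) →
      g' ∉ f.range ⊔ Subgroup.centralizer (f.range : Set G) →
      g⁻¹ * g' ∈ f.range ⊔ Subgroup.centralizer (f.range : Set G))
    (hn : f.range.Normal) :
    (Nat.card V = 121 ∧ Nonempty (G ≃* SL25)) ∨
    (Nat.card V = 841 ∧ Nonempty (G ≃* SL25 × Multiplicative (ZMod 7))) ∨
    (Nat.card V = 3481 ∧ Nonempty (G ≃* SL25 × Multiplicative (ZMod 29))) := by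
  classical
  have h2 := dim_eq_two hρ hinj hcard f hf htwo hn
  have hp := (Fact.out : p.Prime)
  have h7 := seven_le hcard f hf
  set C := Subgroup.centralizer (f.range : Set G) with hC
  have hcomm : ∀ (u : SL25) (z : C), Commute (f u) (z : G) := fun u z =>
    Subgroup.mem_centralizer_iff.mp z.2 _ ⟨u, rfl⟩
  let ψ : SL25 × C →* G := MonoidHom.noncommCoprod f C.subtype hcomm
  have hψ : ∀ u z, ψ (u, z) = f u * (z : G) := fun u z => rfl
  have hsurj : Function.Surjective ψ := by
    intro g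
    haveI := hn
    obtain ⟨x, ⟨u, rfl⟩, z, hz, rfl⟩ := Subgroup.mem_sup_of_normal_left.mp
      (mem_sup_centralizer hρ hinj hcard f hf h2 hn g)
    exact ⟨(u, ⟨z, hz⟩), rfl⟩
  have hZC : f Z5 ∈ C := by
    rw [hC, Subgroup.mem_centralizer_iff]
    rintro _ ⟨u, rfl⟩
    rw [← map_mul, ← map_mul, Z5_comm]
  have hker : Nat.card ψ.ker = 2 := by
    have e : ψ.ker = Subgroup.zpowers ((Z5, ⟨f Z5, hZC⟩) : SL25 × C) := by
      ext ⟨u, z⟩
      rw [MonoidHom.mem_ker, hψ]
      constructor
      · intro h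
        have hz : (z : G) = (f u)⁻¹ := eq_inv_of_mul_eq_one_right h
        have hcen : ∀ y, f y * (f u)⁻¹ = (f u)⁻¹ * f y := fun y => by rw [← hz]; exact (hcomm y z).eq
        have hcen' : ∀ y, u * y = y * u := fun y => hf (by
          have := hcen y
          rw [eq_inv_mul_iff_mul_eq, ← mul_assoc, mul_inv_eq_iff_eq_mul] at this
          rw [map_mul, map_mul]
          exact this)
        rcases eq_one_or_Z5 (hcen' A5) (hcen' B5) with rfl | rfl
        · have : z = 1 := Subtype.ext (by rw [hz, map_one, inv_one, Subgroup.coe_one])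
          subst this
          exact one_mem _
        · have : z = ⟨f Z5, hZC⟩ := Subtype.ext (by
            rw [hz, ← map_inv, inv_eq_of_mul_eq_one_right Z5_sq])
          subst this
          exact Subgroup.mem_zpowers _
      · intro h
        rw [← hψ, ← MonoidHom.mem_ker]
        refine Subgroup.zpowers_le.mpr ?_ h
        rw [MonoidHom.mem_ker, hψ]
        show f Z5 * f Z5 = 1
        rw [← map_mul, Z5_sq, map_one]
    rw [e, Nat.card_zpowers]
    refine orderOf_eq_prime ?_ ?_
    · rw [pow_two, Prod.mk_mul_mk, Z5_sq]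
      exact Prod.ext rfl (Subtype.ext (by show f Z5 * f Z5 = 1; rw [← map_mul, Z5_sq, map_one]))
    · exact fun h => Z5_ne_one (congrArg Prod.fst h)
  have hGC : Nat.card G = 60 * Nat.card C := by
    have h := ψ.ker.card_mul_index
    rw [Subgroup.index_ker, MonoidHom.range_eq_top.mpr hsurj, Subgroup.card_top, hker, Nat.card_prod,
      card_SL25] at h
    omega
  -- the centralizer consists of scalars
  have hscal : ∀ z : C, ∃ s : (ZMod p)ˣ, ρ (z : G) = (s : ZMod p) • 1 := by
    intro z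
    obtain ⟨s, hs⟩ := scalar_of_commute (f := ρ (z : G)) h2
      (a := ρ (f A5)) (b := ρ (f B5))
      (fun h => A5_B5_not_comm (hf (hinj (by simpa [map_mul] using h))))
      ((hcomm A5 z).symm.map ρ) ((hcomm B5 z).symm.map ρ)
    refine ⟨Units.mk0 s ?_, hs⟩
    rintro rfl
    have h1 : ρ (z : G) * ρ (z : G)⁻¹ = 1 := by rw [← map_mul, mul_inv_cancel, map_one]
    rw [hs, zero_smul, zero_mul] at h1
    obtain ⟨v, hv⟩ := exists_ne (0 : V)
    exact hv (LinearMap.congr_fun h1 v).symm
  choose σ hσ using hscal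
  have huniq : ∀ s t : ZMod p, s • (1 : Module.End (ZMod p) V) = t • 1 → s = t := by
    intro s t h
    obtain ⟨v, hv⟩ := exists_ne (0 : V)
    exact smul_left_injective _ hv (LinearMap.congr_fun h v)
  let σh : C →* (ZMod p)ˣ := MonoidHom.mk' σ (fun a b => Units.ext (huniq _ _ (by
    rw [← hσ, Subgroup.coe_mul, map_mul, hσ, hσ, smul_mul_smul_comm, one_mul, Units.val_mul])))
  have hσinj : Function.Injective σh := fun a b h => Subtype.ext (hinj (by
    rw [hσ, hσ]
    exact congrArg (fun s : (ZMod p)ˣ => (s : ZMod p) • (1 : Module.End (ZMod p) V)) h))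
  have hdvdC : Nat.card C ∣ p - 1 := by
    have := Subgroup.card_dvd_of_injective σh hσinj
    rwa [Nat.card_eq_fintype_card (α := (ZMod p)ˣ), ZMod.card_units p] at this
  obtain ⟨j, hj⟩ := hdvdC
  have hCpos : 0 < Nat.card C := Nat.card_pos
  rw [h2, hGC] at hcard
  have hjp : j * (p + 1) = 60 := by
    refine Nat.eq_of_mul_eq_mul_left hCpos ?_
    obtain ⟨q, rfl⟩ : ∃ q, p = q + 1 := ⟨p - 1, by omega⟩
    rw [Nat.add_sub_cancel] at hj
    rw [← mul_assoc, ← hj]
    have : (q + 1) ^ 2 = q * (q + 1 + 1) + 1 := by ring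
    rw [this] at hcard
    rw [mul_comm (Nat.card C) 60]
    omega
  have hp59 : p ≤ 59 := by
    rcases Nat.eq_zero_or_pos j with rfl | hj0
    · omega
    · have := Nat.le_mul_of_pos_left (p + 1) hj0
      omega
  have hV : Nat.card V = p ^ 2 := by rw [Module.natCard_eq_pow_finrank (K := ZMod p), h2, Nat.card_zmod]
  have hpd : p + 1 ∣ 60 := Dvd.intro_left j hjp
  have hcase : p = 11 ∨ p = 19 ∨ p = 29 ∨ p = 59 := by
    interval_cases p <;> first | omega | exact absurd hp (by norm_num)
  have h3C : ¬ 3 ∣ Nat.card C :=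
    not_dvd_centralizer hρ hinj (by rw [h2, hGC]; exact hcard) f hf (Or.inl rfl)
  have hiso : ∀ n : ℕ, n.Prime → Nat.card C = 2 * n → 7 ≤ n →
      Nonempty (G ≃* SL25 × Multiplicative (ZMod n)) := by
    intro n hn hC2 hn7
    haveI := Fact.mk hn
    obtain ⟨z, hz⟩ := exists_prime_orderOf_dvd_card' (G := C) n (hC2 ▸ dvd_mul_left n 2)
    have hzn : Nat.card (Subgroup.zpowers z) = n := by rw [Nat.card_zpowers, hz]
    let e : Multiplicative (ZMod n) ≃* Subgroup.zpowers z :=
      mulEquivOfPrimeCardEq (p := n) (by simp) hzn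
    let θ : SL25 × Multiplicative (ZMod n) →* G :=
      ψ.comp (MonoidHom.prodMap (MonoidHom.id SL25) ((Subgroup.zpowers z).subtype.comp e.toMonoidHom))
    have hθ : Function.Injective θ := by
      rw [injective_iff_map_eq_one]
      rintro ⟨u, y⟩ h
      change f u * ((((e y : Subgroup.zpowers z) : C)) : G) = 1 at h
      set w : C := ((e y : Subgroup.zpowers z) : C) with hw
      have hwn : (w : G) ^ n = 1 := by
        have h1 : (e y) ^ Nat.card (Subgroup.zpowers z) = 1 := pow_card_eq_one'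
        rw [hzn] at h1
        rw [hw, ← Subgroup.coe_pow, ← Subgroup.coe_pow, h1]
        rfl
      have hu : u ^ n = 1 := hf (by
        rw [map_pow, map_one, eq_inv_of_mul_eq_one_left h, inv_pow, hwn, inv_one])
      have hu1 : u = 1 := by
        rw [← orderOf_eq_one_iff]
        refine Nat.eq_one_of_dvd_coprimes ?_ (orderOf_dvd_of_pow_eq_one hu)
          (card_SL25 ▸ orderOf_dvd_natCard u)
        rw [hn.coprime_iff_not_dvd]
        intro hd
        have h2 : n ∣ 2 ^ 3 * (3 * 5) := by norm_num; exact hd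
        rcases hn.dvd_mul.mp h2 with h | h
        · have := Nat.le_of_dvd (by norm_num) (hn.dvd_of_dvd_pow h)
          omega
        · rcases hn.dvd_mul.mp h with h | h <;> have := Nat.le_of_dvd (by norm_num) h <;> omega
      subst hu1
      rw [map_one, one_mul] at h
      have hy : e y = 1 := Subtype.ext (Subtype.ext h)
      rw [Prod.mk_eq_one]
      exact ⟨rfl, e.injective (hy.trans (map_one e).symm)⟩
    refine ⟨(MulEquiv.ofBijective θ ((Nat.bijective_iff_injective_and_card θ).mpr ⟨hθ, ?_⟩)).symm⟩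
    rw [Nat.card_prod, card_SL25, hGC, hC2]
    simp
    omega
  rcases hcase with rfl | rfl | rfl | rfl
  · refine Or.inl ⟨by rw [hV]; norm_num, ⟨(MulEquiv.ofBijective f
      ((Nat.bijective_iff_injective_and_card f).mpr ⟨hf, ?_⟩)).symm⟩⟩
    rw [card_SL25]
    norm_num at hcard
    omega
  · exact absurd (show 3 ∣ Nat.card C by norm_num at hcard; omega) h3C
  · refine Or.inr (Or.inl ⟨by rw [hV]; norm_num, hiso 7 (by norm_num) ?_ le_rfl⟩)
    norm_num at hcard
    omega
  · refine Or.inr (Or.inr ⟨by rw [hV]; norm_num, hiso 29 (by norm_num) ?_ (by norm_num)⟩)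
    norm_num at hcard
    omega

end CfsgLib.NearFieldSL
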